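import Groth.Agent.QCoh.AnnIdeal
import Groth.Agent.QCoh.LocFree
import Groth.Agent.Lib.InvEnd
import Groth.Agent.InvX.Frame
import Groth.Prelude.Def_PicF2
import Groth.Prelude.Def_SecTwist

/-!
# The values of the zero scheme of a section

For `L` quasi-coherent of finite type (e.g. invertible), `zeroIdealOn L s` is an ideal sheaf on affine
opens; for a frame `e` with `s = c e` its value is `(c)`.
-/

universe u

set_option backward.isDefEq.respectTransparency false
set_option backward.isDefEq.respectTransparency.types false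

open CategoryTheory AlgebraicGeometry TopologicalSpace Opposite
open Groth.Agent

namespace Groth.Agent.ZeroSchX

variable {X : Scheme.{u}} {L : X.Modules}

/-- The value of a section, as an element of `Γ(L, U)`. -/
noncomputable abbrev sv (s : Coh.structureModule X ⟶ L) (U : X.Opens) : Γ(L, U) := PicF2.secVal L s U

theorem res_sv (s : Coh.structureModule X ⟶ L) {U V : X.Opens} (h : V ≤ U) :
    L.presheaf.map (homOfLE h).op (sv s U) = sv s V :=
  SecTwist.map_val s (homOfLE h)

/-- The ideal `zeroIdealOn`, over `Γ(X, U)`. -/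
abbrev zI (L : X.Modules) (s : Coh.structureModule X ⟶ L) (U : X.Opens) : Ideal Γ(X, U) :=
  PicF2.zeroIdealOn L s U

theorem mem_zeroIdealOn {s : Coh.structureModule X ⟶ L} {U : X.Opens} {a : Γ(X, U)} :
    a ∈ (zI L s U) ↔
      ∀ m : Γ(L, U), ∃ b : Γ(X, U), a • m = b • sv s U := Iff.rfl

theorem map_basicOpen (hL : Coh.IsQCoh L) (hft : CohB1.IsFT L) (s : Coh.structureModule X ⟶ L)
    {U : X.Opens} (hU : IsAffineOpen U) (f : Γ(X, U)) :
    (zI L s U).map
        (algebraMap Γ(X, U) Γ(X, X.basicOpen f)) =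
      zI L s (X.basicOpen f) := by
  letI := QCoh.basicModule f L
  haveI := hU.isLocalization_basicOpen f
  haveI := QCoh.isLocalizedModule_basicRes f hL hU
  have hres : QCoh.basicRes f L (sv s U) = sv s (X.basicOpen f) := res_sv s (X.basicOpen_le f)
  refine le_antisymm (Ideal.map_le_iff_le_comap.2 fun a ha => ?_) fun b hb => ?_
  · rw [Ideal.mem_comap, mem_zeroIdealOn]
    intro y
    obtain ⟨⟨x, t⟩, hxs⟩ := IsLocalizedModule.surj (Submonoid.powers f) (QCoh.basicRes f L) y
    obtain ⟨c, hc⟩ := mem_zeroIdealOn.1 ha x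
    obtain ⟨w, hw⟩ := IsLocalization.map_units Γ(X, X.basicOpen f) t
    refine ⟨((w⁻¹ : Γ(X, X.basicOpen f)ˣ) : Γ(X, X.basicOpen f)) * algebraMap _ _ c, ?_⟩
    refine w.isUnit.smul_left_cancel.1 ?_
    rw [smul_smul (w : Γ(X, X.basicOpen f)) ((w⁻¹ : Γ(X, X.basicOpen f)ˣ) * _), ← mul_assoc,
      Units.mul_inv, one_mul, smul_comm, hw]
    show a • (t.1 • y) = c • sv s (X.basicOpen f)
    rw [show t.1 • y = QCoh.basicRes f L x from hxs, ← map_smul, ← hres, ← map_smul]
    exact congrArg _ hc
  · haveI := QCoh.finite_of_isFT hL hft hU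
    obtain ⟨n, v, hv⟩ := Module.Finite.exists_fin (R := Γ(X, U)) (M := Γ(L, U))
    obtain ⟨⟨a, t⟩, hat⟩ := IsLocalization.surj (Submonoid.powers f) b
    have h0 : ∀ i, ∃ r : Submonoid.powers f, ∃ c : Γ(X, U), r.1 • (a • v i) = c • sv s U := fun i => by
      obtain ⟨c, hc⟩ := mem_zeroIdealOn.1 hb (QCoh.basicRes f L (v i))
      obtain ⟨⟨c', t'⟩, hct⟩ := IsLocalization.surj (Submonoid.powers f) (algebraMap _ _ t.1 * c)
      have h1 : QCoh.basicRes f L (t'.1 • (a • v i)) = QCoh.basicRes f L (c' • sv s U) := by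
        rw [map_smul, map_smul, map_smul, hres]
        show algebraMap Γ(X, U) Γ(X, X.basicOpen f) t'.1 •
            (algebraMap Γ(X, U) Γ(X, X.basicOpen f) a • QCoh.basicRes f L (v i)) =
          algebraMap Γ(X, U) Γ(X, X.basicOpen f) c' • sv s (X.basicOpen f)
        rw [← hct, ← hat, smul_smul, ← mul_assoc]
        rw [mul_comm (algebraMap Γ(X, U) Γ(X, X.basicOpen f) t'.1) b, mul_assoc, mul_comm b, mul_smul,
          hc, smul_smul]
        congr 1
        ring
      obtain ⟨r, hr⟩ := IsLocalizedModule.exists_of_eq (S := Submonoid.powers f) h1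
      refine ⟨r * t', r.1 * c', ?_⟩
      rw [Submonoid.coe_mul, mul_smul, mul_smul]
      exact hr
    choose r c hrc using h0
    have hmem : (∏ i, r i : Submonoid.powers f).1 * a ∈
        (zI L s U) := by
      rw [mem_zeroIdealOn]
      intro m
      have hm : m ∈ Submodule.span Γ(X, U) (Set.range v) := hv ▸ Submodule.mem_top
      induction hm using Submodule.span_induction with
      | mem _ h =>
        obtain ⟨i, rfl⟩ := h
        refine ⟨(∏ j ∈ Finset.univ.erase i, r j : Submonoid.powers f).1 * c i, ?_⟩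
        rw [← Finset.mul_prod_erase _ r (Finset.mem_univ i), mul_comm (r i), Submonoid.coe_mul,
          mul_assoc, mul_smul, mul_smul, mul_smul]
        exact congrArg _ (hrc i)
      | zero => exact ⟨0, by rw [smul_zero, zero_smul]⟩
      | add _ _ _ _ ha hb =>
        obtain ⟨p, hp⟩ := ha
        obtain ⟨q, hq⟩ := hb
        exact ⟨p + q, by rw [smul_add, hp, hq, add_smul]⟩
      | smul k _ _ ha =>
        obtain ⟨p, hp⟩ := ha
        exact ⟨k * p, by rw [smul_comm, hp, mul_smul]⟩
    rw [IsLocalization.mem_map_algebraMap_iff (Submonoid.powers f)]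
    exact ⟨⟨⟨_, hmem⟩, (∏ i, r i) * t⟩, by
      show b * algebraMap _ _ ((∏ i, r i : Submonoid.powers f).1 * t.1) =
        algebraMap _ _ ((∏ i, r i : Submonoid.powers f).1 * a)
      rw [map_mul, map_mul, ← mul_assoc, mul_comm b, mul_assoc, hat]⟩

theorem isQCoh_inv (hL : PicF.IsInvertible L) : Coh.IsQCoh L :=
  QCoh.isQCoh_of_isFinLocFree fun x =>
    let ⟨U, hx, e⟩ := InvEnd.isFinLocFreeOfRank_one hL x
    ⟨U, 1, hx, e⟩

theorem isFT_inv (hL : PicF.IsInvertible L) : CohB1.IsFT L :=
  QCoh.isFT_of_isFP <| QCoh.isFP_of_isFinLocFree fun x =>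
    let ⟨U, hx, e⟩ := InvEnd.isFinLocFreeOfRank_one hL x
    ⟨U, 1, hx, e⟩

/-- The value of the zero scheme on every affine open. -/
theorem ideal_zeroScheme (hL : PicF.IsInvertible L) (s : Coh.structureModule X ⟶ L) (U : X.affineOpens) :
    (PicF2.zeroScheme L s).ideal U = zI L s U.1 := by
  let J : X.IdealSheafData :=
    { ideal := fun U => zI L s U.1
      map_ideal_basicOpen := fun V f => map_basicOpen (isQCoh_inv hL) (isFT_inv hL) s V.2 f }
  have h : PicF2.zeroScheme L s = J := Scheme.IdealSheafData.ofIdeals_ideal J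
  rw [h]

/-- On an open with a frame. -/
theorem zeroIdealOn_eq_span (s : Coh.structureModule X ⟶ L) {U : X.Opens} {e : Γ(L, U)}
    (he : InvX.IsFrame e) {c : Γ(X, U)} (hc : sv s U = c • e) :
    (zI L s U) = Ideal.span {c} := by
  have hb := he U le_rfl
  have hid : AModX.res L (le_refl U) e = e := by
    simp [AModX.res]
  simp only [hid] at hb
  refine le_antisymm (fun a ha => ?_) ((Ideal.span_singleton_le_iff_mem _).2 fun m => ?_)
  · obtain ⟨b, hb'⟩ := mem_zeroIdealOn.1 ha e
    rw [Ideal.mem_span_singleton']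
    refine ⟨b, (hb.1 ?_).symm⟩
    show a • e = (b * c) • e
    rw [mul_smul, ← hc]
    exact hb'
  · obtain ⟨k, rfl⟩ := hb.2 m
    refine ⟨(k : Γ(X, U)), ?_⟩
    show c • (k • e) = k • sv s U
    rw [hc, smul_comm]

end Groth.Agent.ZeroSchX
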